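import Mathlib

/-!
Extensions `W ⋊ L` of a finite group `L` by an `𝔽₅`-permutation module with the same prime
graph as `L`: the elements of order 13 of `L` have no fixed point on `W`, and 5 is already
joined to the primes 2 and 3 in `L`.
-/

set_option autoImplicit false

namespace Cfsg.Agent.Lib.Helper60.U34

/-- conjugating an element of prime order `p` into the cyclic group of another, when `p²`
does not divide the group order -/
theorem exists_conj_zpowers {G : Type*} [Group G] [Finite G] (p : ℕ) [hp : Fact p.Prime]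
    (hG : ¬ p ^ 2 ∣ Nat.card G) (x y : G) (hx : orderOf x = p) (hy : orderOf y = p) :
    ∃ g : G, y ∈ Subgroup.zpowers (g * x * g⁻¹) := by
  have hsyl : ∀ (Q : Sylow p G) (z : G), orderOf z = p → Subgroup.zpowers z ≤ (Q : Subgroup G) →
      (Q : Subgroup G) = Subgroup.zpowers z := by
    intro Q z hz hle
    obtain ⟨n, hn⟩ := IsPGroup.iff_card.mp Q.isPGroup'
    have hzc : Nat.card (Subgroup.zpowers z) = p := by rw [Nat.card_zpowers, hz]
    have hdvd : p ∣ Nat.card (Q : Subgroup G) := by
      have := Subgroup.card_dvd_of_le hle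
      rwa [hzc] at this
    have hQG : Nat.card (Q : Subgroup G) ∣ Nat.card G := Subgroup.card_subgroup_dvd_card _
    have hn1 : n = 1 := by
      rcases Nat.lt_trichotomy n 1 with h | h | h
      · have h0 : n = 0 := by omega
        rw [hn, h0, pow_zero] at hdvd
        exact absurd (Nat.dvd_one.mp hdvd) hp.out.one_lt.ne'
      · exact h
      · exfalso
        apply hG
        rw [hn] at hQG
        exact dvd_trans (pow_dvd_pow p h) hQG
    rw [hn1, pow_one] at hn
    symm
    apply Subgroup.eq_of_le_of_card_ge hle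
    rw [hzc, hn]
  have hpgx : IsPGroup p (Subgroup.zpowers x) := by
    apply IsPGroup.of_card (n := 1)
    rw [Nat.card_zpowers, hx, pow_one]
  have hpgy : IsPGroup p (Subgroup.zpowers y) := by
    apply IsPGroup.of_card (n := 1)
    rw [Nat.card_zpowers, hy, pow_one]
  obtain ⟨Q1, hQ1⟩ := hpgx.exists_le_sylow
  obtain ⟨Q2, hQ2⟩ := hpgy.exists_le_sylow
  have e1 := hsyl Q1 x hx hQ1
  have e2 := hsyl Q2 y hy hQ2
  obtain ⟨g, hg⟩ := MulAction.exists_smul_eq G Q2 Q1
  have hxm : x ∈ ((g • Q2 : Sylow p G) : Subgroup G) := by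
    rw [hg]; exact hQ1 (Subgroup.mem_zpowers x)
  rw [Sylow.smul_def, Sylow.pointwise_smul_def, Subgroup.mem_pointwise_smul_iff_inv_smul_mem,
    e2] at hxm
  have hxm' : g⁻¹ * x * g⁻¹⁻¹ ∈ Subgroup.zpowers y := by
    simpa [MulAut.smul_def, MulAut.conj_apply] using hxm
  refine ⟨g⁻¹, ?_⟩
  have hord : orderOf (g⁻¹ * x * g⁻¹⁻¹) = p := by
    rw [← hx]
    exact (MulAut.conj g⁻¹).orderOf_eq x
  have hle : Subgroup.zpowers (g⁻¹ * x * g⁻¹⁻¹) ≤ Subgroup.zpowers y := by
    rw [Subgroup.zpowers_le]; exact hxm'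
  have heq : Subgroup.zpowers (g⁻¹ * x * g⁻¹⁻¹) = Subgroup.zpowers y := by
    apply Subgroup.eq_of_le_of_card_ge hle
    rw [Nat.card_zpowers, Nat.card_zpowers, hord, hy]
  rw [heq]
  exact Subgroup.mem_zpowers y

section act

variable {Ω : Type*}

/-- permuting the coordinates of a function with values in `ZMod 5` -/
def actP (σ : Equiv.Perm Ω) : (Ω → ZMod 5) ≃+ (Ω → ZMod 5) where
  toFun f := fun i => f (σ.symm i)
  invFun f := fun i => f (σ i)
  left_inv f := by funext i; simp
  right_inv f := by funext i; simp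
  map_add' _ _ := rfl

theorem actP_apply (σ : Equiv.Perm Ω) (f : Ω → ZMod 5) (i : Ω) : actP σ f i = f (σ.symm i) := rfl

theorem actP_mul (σ τ : Equiv.Perm Ω) (f : Ω → ZMod 5) :
    actP (σ * τ) f = actP σ (actP τ f) := by
  funext i
  simp [actP_apply, Equiv.Perm.mul_def]

theorem actP_one (f : Ω → ZMod 5) : actP (1 : Equiv.Perm Ω) f = f := rfl

variable {L : Type*} [Group L] (ρ : L →* Equiv.Perm Ω)

/-- the action on the multiplicative copy -/
def phi : L →* MulAut (Multiplicative (Ω → ZMod 5)) where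
  toFun l := AddEquiv.toMultiplicative (actP (ρ l))
  map_one' := by
    apply MulEquiv.ext
    intro x
    rw [map_one]
    rfl
  map_mul' a b := by
    apply MulEquiv.ext
    intro x
    rw [map_mul]
    apply Multiplicative.toAdd.injective
    change actP (ρ a * ρ b) (Multiplicative.toAdd x) =
      actP (ρ a) (actP (ρ b) (Multiplicative.toAdd x))
    exact actP_mul _ _ _

theorem phi_apply (l : L) (x : Multiplicative (Ω → ZMod 5)) :
    Multiplicative.toAdd (phi ρ l x) = actP (ρ l) (Multiplicative.toAdd x) := rfl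

/-- the semidirect product -/
abbrev Big := Multiplicative (Ω → ZMod 5) ⋊[phi ρ] L

variable (W : AddSubgroup (Ω → ZMod 5)) (hW : ∀ l : L, ∀ f ∈ W, actP (ρ l) f ∈ W)

/-- the subgroup `W ⋊ L` -/
def Hsub : Subgroup (Big ρ) where
  carrier := {x | Multiplicative.toAdd x.left ∈ W}
  mul_mem' := by
    intro a b ha hb
    change Multiplicative.toAdd (a * b).left ∈ W
    rw [SemidirectProduct.mul_left, toAdd_mul, phi_apply]
    exact W.add_mem ha (hW _ _ hb)
  one_mem' := by
    change Multiplicative.toAdd (1 : Big ρ).left ∈ W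
    rw [SemidirectProduct.one_left, toAdd_one]
    exact W.zero_mem
  inv_mem' := by
    intro a ha
    change Multiplicative.toAdd (a⁻¹).left ∈ W
    rw [SemidirectProduct.inv_left, phi_apply, toAdd_inv]
    exact hW _ _ (W.neg_mem ha)

theorem mem_Hsub (x : Big ρ) : x ∈ Hsub ρ W hW ↔ Multiplicative.toAdd x.left ∈ W := Iff.rfl

/-- the projection -/
def piH : Hsub ρ W hW →* L := SemidirectProduct.rightHom.comp (Hsub ρ W hW).subtype

/-- the section -/
def iotaH : L →* Hsub ρ W hW where
  toFun l := ⟨SemidirectProduct.inr l, by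
    rw [mem_Hsub, SemidirectProduct.left_inr, toAdd_one]
    exact W.zero_mem⟩
  map_one' := by
    apply Subtype.ext
    exact map_one _
  map_mul' a b := by
    apply Subtype.ext
    exact map_mul _ a b

theorem piH_iotaH (l : L) : piH ρ W hW (iotaH ρ W hW l) = l := rfl

theorem iotaH_injective : Function.Injective (iotaH ρ W hW) := by
  intro a b h
  have := congrArg (piH ρ W hW) h
  rwa [piH_iotaH, piH_iotaH] at this

theorem piH_surjective : Function.Surjective (piH ρ W hW) := fun l => ⟨iotaH ρ W hW l, rfl⟩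

theorem pow_five_of_ker (x : Hsub ρ W hW) (hx : piH ρ W hW x = 1) : x ^ 5 = 1 := by
  apply Subtype.ext
  have hr : (x : Big ρ).right = 1 := hx
  have e : (x : Big ρ) = SemidirectProduct.inl (x : Big ρ).left := by
    ext
    · rfl
    · rw [hr]; rfl
  rw [Subgroup.coe_pow, e, ← map_pow]
  have h5 : (x : Big ρ).left ^ 5 = 1 := by
    apply Multiplicative.toAdd.injective
    rw [toAdd_pow, toAdd_one]
    funext i
    change (5 • Multiplicative.toAdd (x : Big ρ).left) i = 0
    rw [Pi.smul_apply, nsmul_eq_mul]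
    have : ((5 : ℕ) : ZMod 5) = 0 := by decide
    rw [this, zero_mul]
  rw [h5, map_one]
  rfl

end act

section main

variable {Ω : Type*} [Finite Ω] {L : Type*} [Group L] [Finite L] (ρ : L →* Equiv.Perm Ω)
  (W : AddSubgroup (Ω → ZMod 5)) (hW : ∀ l : L, ∀ f ∈ W, actP (ρ l) f ∈ W)

instance finite_Big : Finite (Big ρ) := Finite.of_equiv _ SemidirectProduct.equivProd.symm

theorem card_Hsub : ∃ m : ℕ, Nat.card (Hsub ρ W hW) = 5 ^ m * Nat.card L := by
  have hker : IsPGroup 5 (piH ρ W hW).ker := by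
    intro x
    refine ⟨1, ?_⟩
    rw [pow_one]
    apply Subtype.ext
    have := pow_five_of_ker ρ W hW x.1 (MonoidHom.mem_ker.mp x.2)
    rw [Subgroup.coe_pow, this]
    rfl
  have : Fact (Nat.Prime 5) := ⟨by norm_num⟩
  obtain ⟨m, hm⟩ := IsPGroup.iff_card.mp hker
  refine ⟨m, ?_⟩
  rw [← hm, ← Subgroup.card_mul_index (piH ρ W hW).ker, Subgroup.index_ker,
    MonoidHom.range_eq_top.mpr (piH_surjective ρ W hW), Subgroup.card_top]

omit [Finite Ω] [Finite L] in
theorem orderOf_piH_dvd (g : Hsub ρ W hW) : orderOf (piH ρ W hW g) ∣ orderOf g :=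
  orderOf_map_dvd (piH ρ W hW) g

omit [Finite Ω] [Finite L] in
theorem orderOf_dvd_piH (g : Hsub ρ W hW) : orderOf g ∣ orderOf (piH ρ W hW g) * 5 := by
  apply orderOf_dvd_of_pow_eq_one
  rw [pow_mul]
  apply pow_five_of_ker
  rw [map_pow, pow_orderOf_eq_one]

omit [Finite Ω] [Finite L] in
/-- an element of the kernel commuting with an element over an element of order 13 is
trivial -/
theorem eq_one_of_comm (h13 : ∀ l : L, orderOf l = 13 → ∀ f ∈ W, actP (ρ l) f = f → f = 0)
    (g z : Hsub ρ W hW) (hg : orderOf (piH ρ W hW g) = 13) (hz : piH ρ W hW z = 1)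
    (hc : g * z = z * g) : z = 1 := by
  have hzr : (z : Big ρ).right = 1 := hz
  have hcomm : (g : Big ρ) * (z : Big ρ) = (z : Big ρ) * (g : Big ρ) := congrArg Subtype.val hc
  have hl : (g : Big ρ).left * phi ρ (g : Big ρ).right (z : Big ρ).left =
      (z : Big ρ).left * phi ρ (z : Big ρ).right (g : Big ρ).left :=
    congrArg SemidirectProduct.left hcomm
  have hone : phi ρ (z : Big ρ).right (g : Big ρ).left = (g : Big ρ).left := by
    rw [hzr, map_one]
    rfl
  rw [hone] at hl
  have hl2 : phi ρ (g : Big ρ).right (z : Big ρ).left = (z : Big ρ).left := by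
    have h3 : (g : Big ρ).left * phi ρ (g : Big ρ).right (z : Big ρ).left =
        (g : Big ρ).left * (z : Big ρ).left := by
      rw [hl, mul_comm]
    exact mul_left_cancel h3
  have hfix : actP (ρ (g : Big ρ).right) (Multiplicative.toAdd (z : Big ρ).left) =
      Multiplicative.toAdd (z : Big ρ).left := by
    rw [← phi_apply, hl2]
  have h0 := h13 _ hg _ z.2 hfix
  apply Subtype.ext
  apply SemidirectProduct.ext
  · change (z : Big ρ).left = 1
    apply Multiplicative.toAdd.injective
    rw [h0]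
    rfl
  · exact hzr

omit [Finite Ω] [Finite L] in
/-- an element over an element of order 13 has order 13 -/
theorem pow_thirteen (h13 : ∀ l : L, orderOf l = 13 → ∀ f ∈ W, actP (ρ l) f = f → f = 0)
    (g : Hsub ρ W hW) (hg : orderOf (piH ρ W hW g) = 13) : g ^ 13 = 1 := by
  have key : ∀ n : ℕ, piH ρ W hW (g ^ n) = 1 → g ^ n = 1 := fun n hn =>
    eq_one_of_comm ρ W hW h13 g (g ^ n) hg hn (pow_mul_comm' g n).symm
  apply key
  have h1 := pow_orderOf_eq_one (piH ρ W hW g)
  rw [hg] at h1
  rw [map_pow, h1]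

theorem prime_of_card {q : ℕ} (hq : q.Prime) (h : q ∣ 62400) : q = 2 ∨ q = 3 ∨ q = 5 ∨ q = 13 := by
  have e : (62400 : ℕ) = 2 ^ 6 * 3 * 5 ^ 2 * 13 := by norm_num
  rw [e] at h
  rcases (Nat.Prime.dvd_mul hq).mp h with h | h
  · rcases (Nat.Prime.dvd_mul hq).mp h with h | h
    · rcases (Nat.Prime.dvd_mul hq).mp h with h | h
      · left
        exact (Nat.prime_dvd_prime_iff_eq hq Nat.prime_two).mp (hq.dvd_of_dvd_pow h)
      · right; left
        exact (Nat.prime_dvd_prime_iff_eq hq Nat.prime_three).mp h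
    · right; right; left
      exact (Nat.prime_dvd_prime_iff_eq hq Nat.prime_five).mp (hq.dvd_of_dvd_pow h)
  · right; right; right
    exact (Nat.prime_dvd_prime_iff_eq hq (by norm_num)).mp h

omit [Finite Ω] [Finite L] in
theorem key (hcard : Nat.card L = 62400)
    (h13 : ∀ l : L, orderOf l = 13 → ∀ f ∈ W, actP (ρ l) f = f → f = 0)
    (h10 : ∃ g : L, orderOf g = 10) (h15 : ∃ g : L, orderOf g = 15)
    (g : Hsub ρ W hW) (q : ℕ) (hq : q.Prime) (hq5 : q ≠ 5) (h : orderOf g = 5 * q) :
    ∃ l : L, orderOf l = 5 * q := by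
  have d1 := orderOf_piH_dvd ρ W hW g
  have d2 := orderOf_dvd_piH ρ W hW g
  rw [h] at d1 d2
  have hc : Nat.Coprime q 5 := (Nat.coprime_primes hq Nat.prime_five).mpr hq5
  have d3 : q ∣ orderOf (piH ρ W hW g) :=
    hc.dvd_of_dvd_mul_right (dvd_trans (dvd_mul_left q 5) d2)
  obtain ⟨t, ht⟩ := d3
  have ht5 : t ∣ 5 := by
    rw [ht, mul_comm 5 q] at d1
    exact Nat.dvd_of_mul_dvd_mul_left hq.pos d1
  rcases (Nat.dvd_prime Nat.prime_five).mp ht5 with h1 | h1
  · rw [h1, mul_one] at ht
    have hqL : q ∣ Nat.card L := by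
      rw [← ht]
      exact orderOf_dvd_natCard _
    rw [hcard] at hqL
    rcases prime_of_card hq hqL with h2 | h2 | h2 | h2
    · obtain ⟨g', hg'⟩ := h10
      exact ⟨g', by rw [hg', h2]⟩
    · obtain ⟨g', hg'⟩ := h15
      exact ⟨g', by rw [hg', h2]⟩
    · exact absurd h2 hq5
    · exfalso
      rw [h2] at ht
      have hp := pow_thirteen ρ W hW h13 g ht
      have hd := orderOf_dvd_of_pow_eq_one hp
      rw [h, h2] at hd
      norm_num at hd
  · exact ⟨piH ρ W hW g, by rw [ht, h1, mul_comm]⟩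

/-- the prime graph of `W ⋊ L` is that of `L` -/
theorem same_graph (hcard : Nat.card L = 62400)
    (h13 : ∀ l : L, orderOf l = 13 → ∀ f ∈ W, actP (ρ l) f = f → f = 0)
    (h10 : ∃ g : L, orderOf g = 10) (h15 : ∃ g : L, orderOf g = 15) :
    (∀ p : ℕ, p.Prime → (p ∣ Nat.card L ↔ p ∣ Nat.card (Hsub ρ W hW))) ∧
    ∀ p q : ℕ, p.Prime → q.Prime → p ≠ q →
      ((∃ g : L, orderOf g = p * q) ↔ ∃ g : Hsub ρ W hW, orderOf g = p * q) := by
  constructor
  · intro p hp
    obtain ⟨m, hm⟩ := card_Hsub ρ W hW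
    rw [hm]
    constructor
    · intro h
      exact dvd_mul_of_dvd_right h _
    · intro h
      rcases (Nat.Prime.dvd_mul hp).mp h with h | h
      · have h5 : p = 5 := (Nat.prime_dvd_prime_iff_eq hp Nat.prime_five).mp (hp.dvd_of_dvd_pow h)
        rw [h5, hcard]
        norm_num
      · exact h
  · intro p q hp hq hpq
    constructor
    · rintro ⟨g, hg⟩
      exact ⟨iotaH ρ W hW g, by rw [orderOf_injective _ (iotaH_injective ρ W hW) g, hg]⟩
    · rintro ⟨g, hg⟩
      by_cases hp5 : p = 5
      · have hq5 : q ≠ 5 := fun h => hpq (by rw [hp5, h])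
        rw [hp5] at hg ⊢
        exact key ρ W hW hcard h13 h10 h15 g q hq hq5 hg
      · by_cases hq5 : q = 5
        · rw [hq5, mul_comm] at hg
          rw [hq5, mul_comm]
          exact key ρ W hW hcard h13 h10 h15 g p hp hp5 hg
        · have d1 := orderOf_piH_dvd ρ W hW g
          have d2 := orderOf_dvd_piH ρ W hW g
          rw [hg] at d1 d2
          have hc : Nat.Coprime (p * q) 5 :=
            Nat.Coprime.mul_left ((Nat.coprime_primes hp Nat.prime_five).mpr hp5)
              ((Nat.coprime_primes hq Nat.prime_five).mpr hq5)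
          exact ⟨piH ρ W hW g, Nat.dvd_antisymm d1 (hc.dvd_of_dvd_mul_right d2)⟩

theorem card_le_Hsub : Nat.card W ≤ Nat.card (Hsub ρ W hW) := by
  apply Nat.card_le_card_of_injective
    (fun f : W => (⟨SemidirectProduct.inl (Multiplicative.ofAdd (f : Ω → ZMod 5)), by
      rw [mem_Hsub, SemidirectProduct.left_inl]
      exact f.2⟩ : Hsub ρ W hW))
  intro a b h
  have h1 := congrArg (fun x : Hsub ρ W hW => Multiplicative.toAdd (x : Big ρ).left) h
  exact Subtype.ext h1

end main

section norm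

variable {Ω : Type*}

/-- the sum of a function along thirteen steps of a permutation -/
def normAt (σ : Equiv.Perm Ω) (f : Ω → ZMod 5) (i : Ω) : ZMod 5 :=
  ∑ m ∈ Finset.range 13, f ((σ ^ m) i)

theorem closure_norm (σ : Equiv.Perm Ω) (s : Set (Ω → ZMod 5))
    (h : ∀ f ∈ s, ∀ i, normAt σ f i = 0) :
    ∀ f ∈ AddSubgroup.closure s, ∀ i, normAt σ f i = 0 := by
  intro f hf
  induction hf using AddSubgroup.closure_induction with
  | mem x hx => exact h x hx
  | zero => intro i; simp [normAt]
  | add x y _ _ hx hy =>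
    intro i
    have : normAt σ (x + y) i = normAt σ x i + normAt σ y i := by
      simp [normAt, Finset.sum_add_distrib]
    rw [this, hx i, hy i, add_zero]
  | neg x _ hx =>
    intro i
    have : normAt σ (-x) i = - normAt σ x i := by
      simp [normAt, Finset.sum_neg_distrib]
    rw [this, hx i, neg_zero]

theorem closure_invariant (σ : Equiv.Perm Ω) (s : Set (Ω → ZMod 5))
    (h : ∀ f ∈ s, actP σ f ∈ AddSubgroup.closure s) :
    ∀ f ∈ AddSubgroup.closure s, actP σ f ∈ AddSubgroup.closure s := by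
  intro f hf
  induction hf using AddSubgroup.closure_induction with
  | mem x hx => exact h x hx
  | zero => rw [map_zero]; exact AddSubgroup.zero_mem _
  | add x y _ _ hx hy => rw [map_add]; exact AddSubgroup.add_mem _ hx hy
  | neg x _ hx => rw [map_neg]; exact AddSubgroup.neg_mem _ hx

/-- a fixed function whose sums vanish is zero -/
theorem eq_zero_of_fixed (σ : Equiv.Perm Ω) (f : Ω → ZMod 5) (hfix : actP σ f = f)
    (hn : ∀ i, normAt σ f i = 0) : f = 0 := by
  have h1 : ∀ i, f (σ i) = f i := by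
    intro i
    have := congrFun hfix (σ i)
    rw [actP_apply, Equiv.symm_apply_apply] at this
    exact this.symm
  have h2 : ∀ m : ℕ, ∀ i, f ((σ ^ m) i) = f i := by
    intro m
    induction m with
    | zero => intro i; rfl
    | succ m ih =>
      intro i
      rw [pow_succ, Equiv.Perm.mul_apply, ih, h1]
  funext i
  have h3 := hn i
  unfold normAt at h3
  rw [Finset.sum_congr rfl (fun m _ => h2 m i), Finset.sum_const, Finset.card_range,
    nsmul_eq_mul] at h3
  have h4 : f i = 2 * (((13 : ℕ) : ZMod 5) * f i) := by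
    have e : (2 : ZMod 5) * ((13 : ℕ) : ZMod 5) = 1 := by decide
    rw [← mul_assoc, e, one_mul]
  rw [h4, h3, mul_zero]
  rfl

variable {L : Type*} [Group L] (ρ : L →* Equiv.Perm Ω)

/-- elements fixing a function form a subgroup -/
def fixer (f : Ω → ZMod 5) : Subgroup L where
  carrier := {g | actP (ρ g) f = f}
  mul_mem' := by
    intro a b ha hb
    change actP (ρ (a * b)) f = f
    rw [map_mul, actP_mul]
    change actP (ρ b) f = f at hb
    rw [hb]
    exact ha
  one_mem' := by
    change actP (ρ 1) f = f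
    rw [map_one]
    rfl
  inv_mem' := by
    intro a ha
    change actP (ρ a) f = f at ha
    change actP (ρ a⁻¹) f = f
    have : actP (ρ a⁻¹) (actP (ρ a) f) = f := by
      rw [← actP_mul, ← map_mul, inv_mul_cancel, map_one]
      rfl
    rwa [ha] at this

/-- no element of order 13 fixes a non-zero element of `W`, if one such element has vanishing
sums on `W` and 13² does not divide the group order -/
theorem fpf_of_norm [Finite L] (W : AddSubgroup (Ω → ZMod 5))
    (hW : ∀ l : L, ∀ f ∈ W, actP (ρ l) f ∈ W) (hc : ¬ 13 ^ 2 ∣ Nat.card L) (l0 : L)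
    (hl0 : orderOf l0 = 13) (hn : ∀ f ∈ W, ∀ i, normAt (ρ l0) f i = 0) :
    ∀ l : L, orderOf l = 13 → ∀ f ∈ W, actP (ρ l) f = f → f = 0 := by
  intro l hl f hf hfix
  have : Fact (Nat.Prime 13) := ⟨by norm_num⟩
  obtain ⟨x, hx⟩ := exists_conj_zpowers 13 hc l0 l hl0 hl
  have hord : orderOf (x * l0 * x⁻¹) = 13 := by
    rw [← hl0]
    exact (MulAut.conj x).orderOf_eq l0
  have hle : Subgroup.zpowers l ≤ Subgroup.zpowers (x * l0 * x⁻¹) := by
    rw [Subgroup.zpowers_le]; exact hx
  have heq : Subgroup.zpowers l = Subgroup.zpowers (x * l0 * x⁻¹) := by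
    apply Subgroup.eq_of_le_of_card_ge hle
    rw [Nat.card_zpowers, Nat.card_zpowers, hord, hl]
  have hcm : x * l0 * x⁻¹ ∈ fixer ρ f := by
    have h1 : Subgroup.zpowers l ≤ fixer ρ f := by
      rw [Subgroup.zpowers_le]; exact hfix
    apply h1
    rw [heq]
    exact Subgroup.mem_zpowers _
  have h2 : actP (ρ (x * l0 * x⁻¹)) f = f := hcm
  rw [map_mul, map_mul, actP_mul, actP_mul] at h2
  have h3 : actP (ρ l0) (actP (ρ x⁻¹) f) = actP (ρ x⁻¹) f := by
    have := congrArg (actP (ρ x⁻¹)) h2
    rw [← actP_mul (ρ x⁻¹) (ρ x), ← map_mul, inv_mul_cancel, map_one] at this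
    exact this
  have h4 := eq_zero_of_fixed (ρ l0) _ h3 (hn _ (hW _ _ hf))
  have h5 := congrArg (actP (ρ x)) h4
  rw [← actP_mul, ← map_mul, mul_inv_cancel, map_one, map_zero] at h5
  exact h5

end norm

section kfold

variable {Ω : Type*} {L : Type*} [Group L] (ρ : L →* Equiv.Perm Ω) (k : ℕ)

/-- the action on `k` copies -/
def rhoK : L →* Equiv.Perm (Fin k × Ω) where
  toFun l := Equiv.prodCongr (Equiv.refl _) (ρ l)
  map_one' := by
    apply Equiv.ext
    rintro ⟨c, i⟩
    simp
  map_mul' a b := by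
    apply Equiv.ext
    rintro ⟨c, i⟩
    simp

variable (W : AddSubgroup (Ω → ZMod 5))

/-- functions all of whose slices lie in `W` -/
def WK : AddSubgroup (Fin k × Ω → ZMod 5) where
  carrier := {f | ∀ c, (fun i => f (c, i)) ∈ W}
  add_mem' := fun ha hb c => W.add_mem (ha c) (hb c)
  zero_mem' := fun _ => W.zero_mem
  neg_mem' := fun ha c => W.neg_mem (ha c)

theorem slice_act (l : L) (f : Fin k × Ω → ZMod 5) (c : Fin k) :
    (fun i => actP (rhoK ρ k l) f (c, i)) = actP (ρ l) (fun i => f (c, i)) := rfl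

theorem WK_inv (hW : ∀ l : L, ∀ f ∈ W, actP (ρ l) f ∈ W) :
    ∀ l : L, ∀ f ∈ WK k W, actP (rhoK ρ k l) f ∈ WK k W := by
  intro l f hf c
  rw [slice_act]
  exact hW l _ (hf c)

theorem WK_fpf (h13 : ∀ l : L, orderOf l = 13 → ∀ f ∈ W, actP (ρ l) f = f → f = 0) :
    ∀ l : L, orderOf l = 13 → ∀ f ∈ WK k W, actP (rhoK ρ k l) f = f → f = 0 := by
  intro l hl f hf hfix
  funext ⟨c, i⟩
  have h1 : actP (ρ l) (fun i => f (c, i)) = fun i => f (c, i) := by
    rw [← slice_act, hfix]
  exact congrFun (h13 l hl _ (hf c) h1) i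

theorem card_WK_ge [Finite Ω] (w0 : Ω → ZMod 5) (hw0 : w0 ∈ W) (hne : w0 ≠ 0) :
    2 ^ k ≤ Nat.card (WK k W) := by
  have hinj : Function.Injective (fun c : Fin k → Bool =>
      (⟨fun x => if c x.1 then w0 x.2 else 0, fun d => by
        show (fun i => if c d then w0 i else 0) ∈ W
        by_cases hd : c d
        · simp only [hd, if_true]
          exact hw0
        · simp only [hd, Bool.false_eq_true, if_false]
          exact W.zero_mem⟩ : WK k W)) := by
    intro a b h
    obtain ⟨i, hi⟩ : ∃ i, w0 i ≠ 0 := by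
      by_contra hcon
      simp only [not_exists, not_not] at hcon
      exact hne (funext hcon)
    funext d
    have h1 := congrFun (congrArg Subtype.val h) (d, i)
    simp only at h1
    by_cases ha : a d <;> by_cases hb : b d
    · rw [ha, hb]
    · rw [ha] at h1; simp [hb] at h1; exact absurd h1 hi
    · rw [hb] at h1; simp [ha] at h1; exact absurd h1.symm hi
    · simp only [Bool.not_eq_true] at ha hb; rw [ha, hb]
  have := Nat.card_le_card_of_injective _ hinj
  simpa using this

end kfold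

end Cfsg.Agent.Lib.Helper60.U34
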